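import Groth.Agent.Sga4h.H929.NDef
import Mathlib.Algebra.Category.Ring.Constructions
import Mathlib.AlgebraicGeometry.Pullbacks
import Mathlib.AlgebraicGeometry.Morphisms.Etale

/-!
# Laurent polynomials: ring homomorphisms and cartesian squares

* `hom_ext`;
* `mapL φ : A[T;T⁻¹] →+* B[T;T⁻¹]`, `isPullback_mapL`;
* `chi ψ : (K[T;T⁻¹])[X] →+* B[T;T⁻¹]`, `X ↦ ψ T`, and `isPullback_chi`: `G_m × Spec B` is the base change of
  `pra` along `Spec B ⟶ A¹`.
-/

set_option autoImplicit false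
universe u

open CategoryTheory CategoryTheory.Limits AlgebraicGeometry Opposite Polynomial
open scoped LaurentPolynomial
open LaurentPolynomial (T)

namespace Groth.Agent.Sga4h.H57.LauGeo

open Groth.Agent.Sga4h.H929.NDef

section ring

variable {A B D : Type*} [CommRing A] [CommRing B] [CommRing D]

theorem hom_ext {f g : A[T;T⁻¹] →+* D} (h : ∀ a, f (LaurentPolynomial.C a) = g (LaurentPolynomial.C a))
    (hT : f (T 1) = g (T 1)) : f = g := by
  refine IsLocalization.ringHom_ext (Submonoid.powers (Polynomial.X : A[X])) ?_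
  refine Polynomial.ringHom_ext (fun a => ?_) ?_
  · have e : algebraMap A[X] A[T;T⁻¹] (Polynomial.C a) = LaurentPolynomial.C a := Polynomial.toLaurent_C a
    simp only [RingHom.comp_apply, e, h]
  · have e : algebraMap A[X] A[T;T⁻¹] Polynomial.X = T 1 := Polynomial.toLaurent_X
    simp only [RingHom.comp_apply, e, hT]

/-- `T` as a unit -/
noncomputable def TU (A : Type*) [CommRing A] : (A[T;T⁻¹])ˣ where
  val := T 1
  inv := T (-1)
  val_inv := by rw [← LaurentPolynomial.T_add]; rfl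
  inv_val := by rw [← LaurentPolynomial.T_add]; rfl

/-- `A[T;T⁻¹] ⟶ D`, `T ↦ x` -/
noncomputable abbrev ev (f : A →+* D) (x : Dˣ) : A[T;T⁻¹] →+* D := LaurentPolynomial.eval₂ f x

theorem ev_C (f : A →+* D) (x : Dˣ) (a : A) : ev f x (LaurentPolynomial.C a) = f a :=
  LaurentPolynomial.eval₂_C f x a

theorem ev_T (f : A →+* D) (x : Dˣ) : ev f x (T 1) = x := by
  rw [ev, LaurentPolynomial.eval₂_T, zpow_one]

theorem ev_Tinv (f : A →+* D) (x : Dˣ) : ev f x (T (-1)) = ((x⁻¹ : Dˣ) : D) := by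
  rw [ev, LaurentPolynomial.eval₂_T, zpow_neg, zpow_one]

theorem ev_eq {f : A →+* D} {x : Dˣ} {g : A[T;T⁻¹] →+* D}
    (h : ∀ a, g (LaurentPolynomial.C a) = f a) (hT : g (T 1) = x) : g = ev f x :=
  hom_ext (fun a => by rw [h, ev_C]) (by rw [hT, ev_T])

/-- the image of `T` -/
noncomputable def tim (f : A[T;T⁻¹] →+* D) : Dˣ := Units.map (f : A[T;T⁻¹] →* D) (TU A)

theorem val_tim (f : A[T;T⁻¹] →+* D) : ((tim f : Dˣ) : D) = f (T 1) := rfl

theorem inv_tim (f : A[T;T⁻¹] →+* D) : (((tim f)⁻¹ : Dˣ) : D) = f (T (-1)) := rfl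

/-- `A[T;T⁻¹] ⟶ B[T;T⁻¹]` -/
noncomputable def mapL (φ : A →+* B) : A[T;T⁻¹] →+* B[T;T⁻¹] := ev (LaurentPolynomial.C.comp φ) (TU B)

theorem mapL_C (φ : A →+* B) (a : A) : mapL φ (LaurentPolynomial.C a) = LaurentPolynomial.C (φ a) := by
  rw [mapL, ev_C, RingHom.comp_apply]

theorem mapL_T (φ : A →+* B) : mapL φ (T 1) = T 1 := ev_T _ _

theorem mapL_Tinv (φ : A →+* B) : mapL φ (T (-1)) = T (-1) := ev_Tinv _ _

end ring

section square

variable {A B : Type u} [CommRing A] [CommRing B]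

theorem isPushout_mapL (φ : A →+* B) :
    IsPushout (CommRingCat.ofHom (LaurentPolynomial.C : A →+* A[T;T⁻¹])) (CommRingCat.ofHom φ)
      (CommRingCat.ofHom (mapL φ)) (CommRingCat.ofHom (LaurentPolynomial.C : B →+* B[T;T⁻¹])) := by
  refine ⟨⟨?_⟩, ⟨PushoutCocone.IsColimit.mk _
    (fun s => CommRingCat.ofHom (ev s.inr.hom (tim s.inl.hom))) ?_ ?_ ?_⟩⟩
  · exact CommRingCat.hom_ext (RingHom.ext fun a => mapL_C φ a)
  · intro s
    apply CommRingCat.hom_ext
    refine hom_ext (fun a => ?_) ?_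
    · have h := congrArg (fun t => t.hom a) s.condition
      have h' : s.inl.hom (LaurentPolynomial.C a) = s.inr.hom (φ a) := h
      change ev _ _ (mapL φ (LaurentPolynomial.C a)) = s.inl.hom (LaurentPolynomial.C a)
      rw [mapL_C, ev_C, h']
    · change ev _ _ (mapL φ (T 1)) = s.inl.hom (T 1)
      rw [mapL_T, ev_T]
      rfl
  · intro s
    ext b
    exact ev_C _ _ b
  · intro s m h1 h2
    apply CommRingCat.hom_ext
    refine ev_eq (fun b => ?_) ?_
    · exact congrArg (fun t => t.hom b) h2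
    · have h := congrArg (fun t => t.hom (T 1)) h1
      have h' : m.hom (mapL φ (T 1)) = s.inl.hom (T 1) := h
      rw [mapL_T] at h'
      rw [h']
      rfl

theorem isPullback_mapL (φ : A →+* B) :
    IsPullback (Spec.map (CommRingCat.ofHom (mapL φ)))
      (Spec.map (CommRingCat.ofHom (LaurentPolynomial.C : B →+* B[T;T⁻¹])))
      (Spec.map (CommRingCat.ofHom (LaurentPolynomial.C : A →+* A[T;T⁻¹])))
      (Spec.map (CommRingCat.ofHom φ)) :=
  isPullback_SpecMap_of_isPushout _ _ _ _ (isPushout_mapL φ)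

end square

section chi

variable {K : Type u} [Field K] {B : Type u} [CommRing B]

/-- `(K[T;T⁻¹])[X] ⟶ B[T;T⁻¹]`, `X ↦ a` -/
noncomputable def chi (φ : K →+* B) (a : B) : (K[T;T⁻¹])[X] →+* B[T;T⁻¹] :=
  eval₂RingHom (mapL φ) (LaurentPolynomial.C a)

/-- `K[X] ⟶ B`, `X ↦ a` -/
noncomputable def tha (φ : K →+* B) (a : B) : K[X] →+* B := eval₂RingHom φ a

theorem chi_C (φ : K →+* B) (a : B) (s : K[T;T⁻¹]) : chi φ a (C s) = mapL φ s := by simp [chi]

theorem chi_X (φ : K →+* B) (a : B) : chi φ a X = LaurentPolynomial.C a := by simp [chi]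

theorem tha_C (φ : K →+* B) (a : B) (s : K) : tha φ a (C s) = φ s := by simp [tha]

theorem tha_X (φ : K →+* B) (a : B) : tha φ a X = a := by simp [tha]

theorem chi_comp_C (φ : K →+* B) (a : B) : (chi φ a).comp C = mapL φ :=
  RingHom.ext fun s => chi_C φ a s

/-- `a / x` goes to `a / T` -/
theorem chi_aox (φ : K →+* B) (a : B) : chi φ a (aox K) = LaurentPolynomial.C a * T (-1) := by
  rw [aox, map_mul, chi_C, chi_X, mapL_Tinv, mul_comm]

theorem isPushout_chi (φ : K →+* B) (a : B) :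
    IsPushout (CommRingCat.ofHom (Polynomial.mapRingHom (LaurentPolynomial.C : K →+* K[T;T⁻¹])))
      (CommRingCat.ofHom (tha φ a)) (CommRingCat.ofHom (chi φ a))
      (CommRingCat.ofHom (LaurentPolynomial.C : B →+* B[T;T⁻¹])) := by
  refine ⟨⟨?_⟩, ⟨PushoutCocone.IsColimit.mk _
    (fun s => CommRingCat.ofHom (ev s.inr.hom (tim (s.inl.hom.comp C : K[T;T⁻¹] →+* _)))) ?_ ?_ ?_⟩⟩
  · apply CommRingCat.hom_ext
    refine Polynomial.ringHom_ext (fun c => ?_) ?_
    · change chi φ a (Polynomial.mapRingHom _ (C c)) = LaurentPolynomial.C (tha φ a (C c))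
      rw [coe_mapRingHom, Polynomial.map_C, chi_C, tha_C, mapL_C]
    · change chi φ a (Polynomial.mapRingHom _ X) = LaurentPolynomial.C (tha φ a X)
      rw [coe_mapRingHom, Polynomial.map_X, chi_X, tha_X]
  · intro s
    apply CommRingCat.hom_ext
    have hc : ∀ p : K[X], s.inl.hom (Polynomial.mapRingHom (LaurentPolynomial.C : K →+* K[T;T⁻¹]) p) =
        s.inr.hom (tha φ a p) := fun p => congrArg (fun t => t.hom p) s.condition
    refine Polynomial.ringHom_ext (fun c => ?_) ?_
    · change ev _ _ (chi φ a (C c)) = s.inl.hom (C c)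
      rw [chi_C]
      have key : (ev s.inr.hom (tim (s.inl.hom.comp C : K[T;T⁻¹] →+* _))).comp (mapL φ) =
          s.inl.hom.comp C := ?_
      · exact RingHom.congr_fun key c
      refine hom_ext (fun c => ?_) ?_
      · have h := hc (C c)
        rw [coe_mapRingHom, Polynomial.map_C, tha_C] at h
        rw [RingHom.comp_apply, RingHom.comp_apply, mapL_C, ev_C]
        exact h.symm
      · rw [RingHom.comp_apply, RingHom.comp_apply, mapL_T, ev_T]
        rfl
    · have h := hc X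
      rw [coe_mapRingHom, Polynomial.map_X, tha_X] at h
      change ev _ _ (chi φ a X) = s.inl.hom X
      rw [chi_X, ev_C]
      exact h.symm
  · intro s
    ext b
    exact ev_C _ _ b
  · intro s m h1 h2
    apply CommRingCat.hom_ext
    refine ev_eq (fun b => ?_) ?_
    · exact congrArg (fun t => t.hom b) h2
    · have h := congrArg (fun t => t.hom (C (T 1))) h1
      have h' : m.hom (chi φ a (C (T 1))) = s.inl.hom (C (T 1)) := h
      rw [chi_C, mapL_T] at h'
      rw [h']
      rfl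

theorem isPullback_chi (φ : K →+* B) (a : B) :
    IsPullback (Spec.map (CommRingCat.ofHom (chi φ a)))
      (Spec.map (CommRingCat.ofHom (LaurentPolynomial.C : B →+* B[T;T⁻¹])))
      (pra K) (Spec.map (CommRingCat.ofHom (tha φ a))) :=
  isPullback_SpecMap_of_isPushout _ _ _ _ (isPushout_chi φ a)

end chi

end Groth.Agent.Sga4h.H57.LauGeo
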