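import Groth.Agent.Sga4h.H299.Row
import Groth.Agent.EtpbcB.ExtRightDerived
import Mathlib.CategoryTheory.Adjunction.Additive
import Mathlib.Algebra.Category.Grp.Zero
import Mathlib.CategoryTheory.Preadditive.Yoneda.Limits

/-!
# `Ext (L X) M = 0` versus `Ext X (R^d G M) = 0`, `L ⊣ G`, when only one row is nonzero

* `subsingleton_ext_iff`: `Ext^m(X, Y) = 0` iff `R^m Hom(X, -) Y = 0`;
* `van_iff`: if `R^q G M = 0` for `q ≠ d`, then `Ext^m(L X, M) = 0` for all `m` iff
  `Ext^m(X, R^d G M) = 0` for all `m`.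
-/

set_option autoImplicit false
universe w w' v u u'

open CategoryTheory CategoryTheory.Limits CategoryTheory.Abelian Opposite

namespace Groth.Agent.Sga4h.H57.RowExt

open Groth.Agent.EtpbcB.ExtRightDerived

section Ext

variable {C : Type u} [Category.{v} C] [Abelian C] [HasExt.{w} C] [HasInjectiveResolutions C] (A : C)
  (F : C ⥤ AddCommGrpCat.{v}) [F.Additive] [PreservesFiniteLimits F]
  (e : ∀ Y : C, F.obj Y ≃+ (A ⟶ Y))
  (he : ∀ {Y Z : C} (f : Y ⟶ Z) (x : F.obj Y), e Z (F.map f x) = e Y x ≫ f)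

include he in
/-- `Ext^m(A, Y) = 0` iff `R^m F Y = 0`, for `F ≅ Hom(A, -)`. -/
theorem subsingleton_ext_iff (Y : C) (m : ℕ) :
    Subsingleton (Ext.{w} A Y m) ↔ IsZero ((F.rightDerived m).obj Y) := by
  cases m with
  | zero =>
    have h1 : Subsingleton (Ext.{w} A Y 0) ↔ Subsingleton (A ⟶ Y) :=
      (Equiv.ofBijective _ (Ext.mk₀_bijective A Y)).subsingleton_congr.symm
    have h2 : IsZero ((F.rightDerived 0).obj Y) ↔ IsZero (F.obj Y) :=
      (F.rightDerivedZeroIsoSelf.app Y).isZero_iff
    rw [h1, h2, ← (e Y).toEquiv.subsingleton_congr]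
    exact ⟨fun h => AddCommGrpCat.isZero_of_subsingleton _, fun h => AddCommGrpCat.subsingleton_of_isZero h⟩
  | succ n =>
    obtain ⟨i⟩ := ext_rightDerived A F e he Y n
    rw [i.toEquiv.subsingleton_congr]
    exact ⟨fun h => AddCommGrpCat.isZero_of_subsingleton _, fun h => AddCommGrpCat.subsingleton_of_isZero h⟩

end Ext

section Row

variable {A : Type u} [Category.{v} A] [Abelian A] [EnoughInjectives A] [HasExt.{w} A]
  {B : Type u'} [Category.{v} B] [Abelian B] [EnoughInjectives B] [HasExt.{w'} B]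
  (L : B ⥤ A) [L.Additive] (G : A ⥤ B) [G.Additive] (adj : L ⊣ G) [PreservesFiniteLimits G]

/-- `Hom(X, -)` -/
abbrev hom (X : B) : B ⥤ AddCommGrpCat.{v} := preadditiveCoyoneda.obj (op X)

instance (X : B) : PreservesFiniteLimits (hom X) := by
  have : PreservesFiniteLimits (hom X ⋙ forget AddCommGrpCat.{v}) :=
    inferInstanceAs (PreservesFiniteLimits (coyoneda.obj (op X)))
  exact ⟨fun J _ _ => preservesLimitsOfShape_of_reflects_of_preserves (hom X) (forget AddCommGrpCat.{v})⟩

/-- the adjunction bijection, additive -/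
noncomputable def adjAdd (X : B) (Y : A) : (hom X).obj (G.obj Y) ≃+ (L.obj X ⟶ Y) where
  toEquiv := (adj.homEquiv X Y).symm
  map_add' a b := by
    change (adj.homEquiv X Y).symm (a + b) = (adj.homEquiv X Y).symm a + (adj.homEquiv X Y).symm b
    rw [Adjunction.homEquiv_counit, Adjunction.homEquiv_counit, Adjunction.homEquiv_counit]
    erw [L.map_add]
    exact Preadditive.add_comp _ _ _ _ _ _

theorem van_ext_self (X Y : B) (m : ℕ) :
    Subsingleton (Ext.{w'} X Y m) ↔ IsZero (((hom X).rightDerived m).obj Y) :=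
  subsingleton_ext_iff X (hom X) (fun _ => AddEquiv.refl _) (fun _ _ => rfl) Y m

include adj in
theorem van_ext_comp (X : B) (M : A) (m : ℕ) :
    Subsingleton (Ext.{w} (L.obj X) M m) ↔ IsZero (((G ⋙ hom X).rightDerived m).obj M) := by
  have : PreservesFiniteLimits (G ⋙ hom X) := comp_preservesFiniteLimits _ _
  exact subsingleton_ext_iff (L.obj X) (G ⋙ hom X) (fun Y => adjAdd L G adj X Y)
    (fun {Y Z} f x => adj.homEquiv_naturality_right_symm x f) M m

include adj in
/-- **One row.** -/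
theorem van_iff (hG : ∀ I : A, Injective I → Injective (G.obj I)) (X : B) (M : A) (d : ℕ)
    (hq : ∀ q, q ≠ d → IsZero ((G.rightDerived q).obj M)) :
    (∀ m, Subsingleton (Ext.{w} (L.obj X) M m)) ↔
      ∀ m, Subsingleton (Ext.{w'} X ((G.rightDerived d).obj M) m) := by
  constructor
  · intro h m
    obtain ⟨i⟩ := H299.Row.one_row G (hom X) hG d M hq m
    exact (van_ext_self X _ m).2 (((van_ext_comp L G adj X M (m + d)).1 (h _)).of_iso i.symm)
  · intro h m
    refine (van_ext_comp L G adj X M m).2 ?_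
    rcases lt_or_ge m d with hlt | hge
    · exact H299.Row.isZero_below G (hom X) hG d M (fun q hqd => hq q hqd.ne) m hlt
    · obtain ⟨p, rfl⟩ := Nat.exists_eq_add_of_le' hge
      obtain ⟨i⟩ := H299.Row.one_row G (hom X) hG d M hq p
      exact ((van_ext_self X _ p).1 (h p)).of_iso i

end Row

end Groth.Agent.Sga4h.H57.RowExt
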