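import Groth.Agent.Sga4h.H57.LauGeo
import Groth.Agent.Sga4h.H980.Geo2
import Groth.Agent.Sga4h.H961.RR

/-!
# The tori and the product of the coordinates

* `isPullback_tor` : `G_m^{n+1} = G_m^n × G_m` by the product of the coordinates;
* `isPullback_res` : the torus is the preimage of `G_m` under `A^n ⟶ A¹`;
* `isIso_piL_one`.
-/

set_option autoImplicit false
universe u

open CategoryTheory CategoryTheory.Limits AlgebraicGeometry Opposite Polynomial
open scoped LaurentPolynomial
open LaurentPolynomial (T)

namespace Groth.Agent.Sga4h.H57.TorGeo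

open Groth.Agent.Sga4h.H929.NDef Groth.Agent.Sga4h.H980.Fib Groth.Agent.Sga4h.H980.Geo2
  Groth.Agent.Sga4h.H961.RR

variable (K : Type u) [Field K] (n : ℕ)

theorem torusFst_eq : (torusFst (K := K) (n := n)).toRingHom = fstR K n := by
  refine homR_ext ?_ fun i => ?_
  · rw [fstR_comp_algebraMap]
    exact RingHom.ext fun a => (torusFst (K := K) (n := n)).commutes a
  · rw [fstR_x]
    exact torusFst_x i

theorem torusSnd_eq : (torusSnd (K := K) (n := n)).toRingHom = piL K (n + 1) := by
  refine laurent_ext ?_ ?_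
  · rw [piL_comp_C]
    exact RingHom.ext fun a => (torusSnd (K := K) (n := n)).commutes a
  · rw [piL_T]
    exact torusSnd_T

theorem isPullback_tor :
    IsPullback (Spec.map (CommRingCat.ofHom (fstR K n))) (Spec.map (CommRingCat.ofHom (piL K (n + 1))))
      (Spec.map (CommRingCat.ofHom ((piL K n).comp LaurentPolynomial.C)))
      (Spec.map (CommRingCat.ofHom (LaurentPolynomial.C : K →+* K[T;T⁻¹]))) := by
  have h := isPullback_torus K n
  rw [torusFst_eq, torusSnd_eq] at h
  rw [piL_comp_C]
  exact h

theorem last_mul : x (Fin.last n) * fstR K n (piL K n (T 1)) = piL K (n + 1) (T 1) := by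
  rw [piL_T, piL_T, map_prod, Fin.prod_univ_castSucc, mul_comm]
  congr 1
  exact Finset.prod_congr rfl fun i _ => fstR_x n i

/-- `G_m^n ⟶ A^n` -/
noncomputable abbrev resT : Spec (CommRingCat.of (TK K n)) ⟶
    Spec (CommRingCat.of (MvPolynomial (Fin n) K)) :=
  Spec.map (CommRingCat.ofHom (algebraMap (MvPolynomial (Fin n) K) (TK K n)))

/-- the product of the coordinates `A^n ⟶ A¹` -/
noncomputable abbrev prodM : Spec (CommRingCat.of (MvPolynomial (Fin n) K)) ⟶
    Spec (CommRingCat.of K[X]) :=
  Spec.map (CommRingCat.ofHom (Polynomial.aeval (∏ i : Fin n, MvPolynomial.X i :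
    MvPolynomial (Fin n) K)).toRingHom)

theorem aeval_C' (c : K) : (Polynomial.aeval (∏ i : Fin n, MvPolynomial.X i :
    MvPolynomial (Fin n) K)).toRingHom (C c) = MvPolynomial.C c := Polynomial.aeval_C _ _

theorem aeval_X' : (Polynomial.aeval (∏ i : Fin n, MvPolynomial.X i :
    MvPolynomial (Fin n) K)).toRingHom (X : K[X]) =
      (∏ i : Fin n, MvPolynomial.X i : MvPolynomial (Fin n) K) := Polynomial.aeval_X _

theorem isPullback_res : IsPullback (resT K n) (Spec.map (CommRingCat.ofHom (piL K n)))
    (prodM K n) (ι K) := by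
  refine isPullback_of _ _ _ _ ?_ (fun R _ b c hbc => ?_) (fun R _ p q h1 h2 => ?_)
  · apply Polynomial.ringHom_ext
    · intro c
      rw [RingHom.comp_apply, RingHom.comp_apply, aeval_C']
      have h : (Polynomial.toLaurent : Polynomial K →+* K[T;T⁻¹]) (C c) = LaurentPolynomial.C c :=
        Polynomial.toLaurent_C c
      rw [h, piL_C, algebraMap_TK]
    · rw [RingHom.comp_apply, RingHom.comp_apply, aeval_X', map_prod]
      have h : (Polynomial.toLaurent : Polynomial K →+* K[T;T⁻¹]) X = T 1 := Polynomial.toLaurent_X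
      rw [h, piL_T]
      rfl
  · have h0 : ∀ k, b (MvPolynomial.C k) = c (LaurentPolynomial.C k) := fun k => by
      have h := RingHom.congr_fun hbc (C k)
      rw [RingHom.comp_apply, RingHom.comp_apply, aeval_C'] at h
      rw [h]
      exact congrArg c (Polynomial.toLaurent_C k)
    have h1 : ∏ i : Fin n, b (MvPolynomial.X i) = c (T 1) := by
      have h := RingHom.congr_fun hbc X
      rw [RingHom.comp_apply, RingHom.comp_apply, aeval_X', map_prod] at h
      rw [h]
      exact congrArg c Polynomial.toLaurent_X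
    have hu : IsUnit (∏ i : Fin n, b (MvPolynomial.X i)) := by
      rw [h1]
      exact (LaurentPolynomial.isUnit_T 1).map c
    refine ⟨liftR (b.comp MvPolynomial.C) (fun i => b (MvPolynomial.X i)) hu, ?_, ?_⟩
    · refine MvPolynomial.ringHom_ext (fun k => ?_) fun i => ?_
      · rw [RingHom.comp_apply, ← algebraMap_TK, liftR_algebraMap, RingHom.comp_apply]
      · exact liftR_x _ _ hu i
    · refine laurent_ext ?_ ?_
      · rw [RingHom.comp_assoc, piL_comp_C, liftR_comp_algebraMap]
        exact RingHom.ext h0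
      · rw [RingHom.comp_apply, piL_T, map_prod, ← h1]
        exact Finset.prod_congr rfl fun i _ => liftR_x _ _ hu i
  · refine homR_ext ?_ fun i => ?_
    · exact RingHom.ext fun k => by
        rw [RingHom.comp_apply, RingHom.comp_apply, algebraMap_TK]
        exact RingHom.congr_fun h1 (MvPolynomial.C k)
    · exact RingHom.congr_fun h1 (MvPolynomial.X i)

theorem resT_prn : resT K (n + 1) ≫ prn K n =
    Spec.map (CommRingCat.ofHom (fstR K n)) ≫ resT K n := by
  rw [← Spec.map_comp, ← Spec.map_comp, ← CommRingCat.ofHom_comp, ← CommRingCat.ofHom_comp]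
  congr 2
  refine MvPolynomial.ringHom_ext (fun k => ?_) fun i => ?_
  · rw [RingHom.comp_apply, RingHom.comp_apply, ← algebraMap_TK, fstR_algebraMap, algebraMap_TK]
    congr 1
    exact MvPolynomial.rename_C _ _
  · rw [RingHom.comp_apply, RingHom.comp_apply]
    refine Eq.trans ?_ (fstR_x n i).symm
    exact congrArg _ (MvPolynomial.rename_X _ _)

/-- the inverse of `G_m^1 ⟶ G_m` -/
noncomputable def oneInv : TK K 1 →+* K[T;T⁻¹] :=
  liftR LaurentPolynomial.C (fun _ => T 1) (by
    rw [Fin.prod_univ_one]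
    exact LaurentPolynomial.isUnit_T 1)

theorem oneInv_comp : (oneInv K).comp (piL K 1) = RingHom.id _ := by
  refine laurent_ext ?_ ?_
  · rw [RingHom.comp_assoc, piL_comp_C, oneInv, liftR_comp_algebraMap]
    rfl
  · rw [RingHom.comp_apply, piL_T, Fin.prod_univ_one, oneInv, liftR_x]
    rfl

theorem comp_oneInv : (piL K 1).comp (oneInv K) = RingHom.id _ := by
  refine homR_ext ?_ fun i => ?_
  · rw [RingHom.comp_assoc, oneInv, liftR_comp_algebraMap, piL_comp_C]
    rfl
  · rw [RingHom.comp_apply, oneInv, liftR_x, piL_T, Fin.prod_univ_one, Subsingleton.elim i 0]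
    rfl

theorem isIso_piL_one : IsIso (Spec.map (CommRingCat.ofHom (piL K 1))) := by
  refine ⟨Spec.map (CommRingCat.ofHom (oneInv K)), ?_, ?_⟩
  · rw [← Spec.map_comp, ← CommRingCat.ofHom_comp, comp_oneInv]
    exact Spec.map_id _
  · rw [← Spec.map_comp, ← CommRingCat.ofHom_comp, oneInv_comp]
    exact Spec.map_id _

end Groth.Agent.Sga4h.H57.TorGeo
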